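/-
Local generators of a height one prime of a Noetherian domain near points with factorial local rings.
-/
import Mathlib

universe u

namespace GrothLib.UFDPunct

variable {A : Type u} [CommRing A]

/-- `g` generates `p` away from the zero locus of `f`. -/
def Good (p : Ideal A) (f g : A) : Prop :=
  g ≠ 0 ∧ (∀ x ∈ p, ∃ n : ℕ, g ∣ f ^ n * x) ∧ ∃ n : ℕ, f ^ n * g ∈ p

theorem exists_good_of_not_le [Nontrivial A] {p q : Ideal A} (h : ¬ p ≤ q) :
    ∃ f g : A, f ∉ q ∧ Good p f g := by
  obtain ⟨f, hfp, hfq⟩ := SetLike.not_le_iff_exists.1 h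
  exact ⟨f, 1, hfq, one_ne_zero, fun x _ => ⟨0, one_dvd _⟩, 1, by simpa using hfp⟩

theorem exists_good [IsDomain A] [IsNoetherianRing A] (p : Ideal A) [p.IsPrime] (hp : p.height = 1)
    (q : Ideal A) [q.IsPrime] (S : Type u) [CommRing S] [Algebra A S] [IsLocalization.AtPrime S q]
    [IsDomain S] [UniqueFactorizationMonoid S] : ∃ f g : A, f ∉ q ∧ Good p f g := by
  classical
  by_cases hpq : p ≤ q
  swap
  · exact exists_good_of_not_le hpq
  have hdis : Disjoint (q.primeCompl : Set A) (p : Set A) :=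
    Set.disjoint_left.2 fun x hx hxp => hx (hpq hxp)
  haveI := IsLocalization.isPrime_of_isPrime_disjoint q.primeCompl S p ‹_› hdis
  have hunder := IsLocalization.under_map_of_isPrime_disjoint q.primeCompl S ‹p.IsPrime› hdis
  have hh : (p.map (algebraMap A S)).height = 1 := by
    rw [← IsLocalization.height_under q.primeCompl, hunder, hp]
  obtain ⟨γ, hγ⟩ := UniqueFactorizationMonoid.isPrincipal_of_height_eq_one hh
  have hγ' : γ ∈ p.map (algebraMap A S) := by rw [hγ]; exact Submodule.mem_span_singleton_self γ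
  obtain ⟨⟨⟨g, hgp⟩, s⟩, hgs⟩ := (IsLocalization.mem_map_algebraMap_iff q.primeCompl S).1 hγ'
  have hs : IsUnit (algebraMap A S (s : A)) := IsLocalization.map_units S s
  have hg0 : g ≠ 0 := by
    rintro rfl
    have hγ0 : γ = 0 := by
      simp only [map_zero] at hgs
      exact (IsUnit.mul_left_eq_zero hs).1 hgs
    rw [hγ0, Submodule.span_zero_singleton] at hγ
    exact Ideal.ne_bot_of_height_eq_one hh hγ
  have hx : ∀ x ∈ p, ∃ t : A, t ∉ q ∧ g ∣ t * x := by
    intro x hxp
    obtain ⟨c, hc⟩ : ∃ c : S, algebraMap A S x = c * algebraMap A S g := by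
      obtain ⟨c, hc⟩ := Submodule.mem_span_singleton.1 (hγ ▸ Ideal.mem_map_of_mem (algebraMap A S) hxp)
      refine ⟨c * ↑hs.unit⁻¹, ?_⟩
      have h1 : (↑hs.unit⁻¹ : S) * algebraMap A S (s : A) = 1 := IsUnit.val_inv_mul hs
      rw [← hc, smul_eq_mul, ← hgs]
      calc c * γ = c * (↑hs.unit⁻¹ * algebraMap A S (s : A)) * γ := by rw [h1, mul_one]
        _ = _ := by ring
    obtain ⟨d, t, rfl⟩ := IsLocalization.exists_mk'_eq q.primeCompl c
    rw [mul_comm, IsLocalization.mul_mk'_eq_mk'_of_mul, eq_comm, IsLocalization.mk'_eq_iff_eq_mul,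
      ← map_mul] at hc
    obtain ⟨m, hm⟩ := (IsLocalization.eq_iff_exists q.primeCompl S).1 hc
    refine ⟨m * t, fun h => (Ideal.IsPrime.mem_or_mem ‹_› h).elim m.2 t.2, (m : A) * d, ?_⟩
    calc (m : A) * t * x = m * (x * t) := by ring
      _ = g * (m * d) := by rw [← hm]; ring
  choose t htq htd using hx
  obtain ⟨G, hG⟩ := (inferInstance : IsNoetherianRing A).noetherian p
  have hGp : ∀ x ∈ G, x ∈ p := fun x hx' => hG ▸ Submodule.subset_span hx'
  refine ⟨∏ x ∈ G.attach, t x.1 (hGp _ x.2), g, fun h => ?_, hg0, fun x hxp => ⟨1, ?_⟩,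
    ⟨0, by simpa using hgp⟩⟩
  · obtain ⟨x, -, hx'⟩ := (Ideal.IsPrime.prod_mem_iff (hp := ‹q.IsPrime›)).1 h
    exact htq _ _ hx'
  · rw [pow_one]
    rw [← hG] at hxp
    induction hxp using Submodule.span_induction with
    | mem y hy =>
      exact (htd y (hGp y hy)).trans
        (mul_dvd_mul_right (Finset.dvd_prod_of_mem (fun z : {z // z ∈ G} => t z.1 (hGp _ z.2))
          (Finset.mem_attach G ⟨y, hy⟩)) y)
    | zero => simp
    | add y z _ _ hy hz => rw [mul_add]; exact dvd_add hy hz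
    | smul a y _ hy => rw [smul_eq_mul, mul_left_comm]; exact hy.mul_left a

end GrothLib.UFDPunct
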