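/-
A height one prime of a normal Noetherian domain which is locally principal on an open subset containing
all height one primes and with trivial Picard group is principal.
-/
import Groth.Agent.Lib.UFDPunct.Algebra
import Groth.Agent.Lib.Ample.Cocycle
import Groth.Agent.Lib.InvExt.UFD
import Groth.Agent.Lib.InvExt.Transfer
import Groth.Agent.Lib.InvExt.FiniteFibre
import Groth.Agent.Lib.NormalSerre.AssPrincipal
import Groth.Prelude.Def_ParaF

universe u

open CategoryTheory Limits AlgebraicGeometry Opposite TopologicalSpace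
open GrothLib.InvExt (mres fres IsGen)

noncomputable section

namespace GrothLib.UFDPunct

variable {R : CommRingCat.{u}}

/-- Elements of the ring as sections over opens of an open subscheme. -/
def σ (U : (Spec R).Opens) (W : (U : Scheme.{u}).Opens) : R →+* Γ((U : Scheme.{u}), W) :=
  ((U : Scheme.{u}).presheaf.map (homOfLE (le_top : W ≤ ⊤)).op).hom.comp
    ((U.ι.appTop).hom.comp (Scheme.ΓSpecIso R).inv.hom)

variable {U : (Spec R).Opens}

theorem res_σ {W W' : (U : Scheme.{u}).Opens} (h : W' ≤ W) (r : R) :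
    fres (U : Scheme.{u}) h (σ U W r) = σ U W' r :=
  InvExt.fres_fres le_top h (U.ι.appTop ((Scheme.ΓSpecIso R).inv r))

theorem basicOpen_σ_top (r : R) :
    (U : Scheme.{u}).basicOpen (σ U ⊤ r) = U.ι ⁻¹ᵁ PrimeSpectrum.basicOpen r := by
  have h : σ U ⊤ r = U.ι.appTop ((Scheme.ΓSpecIso R).inv r) :=
    InvExt.fres_self (U.ι.appTop ((Scheme.ΓSpecIso R).inv r))
  rw [h, ← basicOpen_eq_of_affine r]
  exact (Scheme.preimage_basicOpen U.ι _).symm

theorem mem_basicOpen_σ {y : (U : Scheme.{u})} {W : (U : Scheme.{u}).Opens} (r : R) :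
    y ∈ (U : Scheme.{u}).basicOpen (σ U W r) ↔ y ∈ W ∧ r ∉ (y.1).asIdeal := by
  have h : (U : Scheme.{u}).basicOpen (σ U W r) = W ⊓ (U : Scheme.{u}).basicOpen (σ U ⊤ r) := by
    rw [← res_σ (le_top : W ≤ ⊤) r]
    exact Scheme.basicOpen_res _ _ _
  rw [h, basicOpen_σ_top]
  rfl

theorem isUnit_σ {W : (U : Scheme.{u}).Opens} (r : R) (h : W ≤ U.ι ⁻¹ᵁ PrimeSpectrum.basicOpen r) :
    IsUnit (σ U W r) := by
  rw [← res_σ (le_top : W ≤ ⊤) r]
  exact InvExt.isUnit_res_of_le_basicOpen _ _ (by rw [basicOpen_σ_top]; exact h)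

variable [IsDomain R]

theorem isIntegral_open [Nonempty (U : Scheme.{u})] : IsIntegral (U : Scheme.{u}) :=
  isIntegral_of_isOpenImmersion U.ι

theorem σ_ne_zero {W : (U : Scheme.{u}).Opens} (hW : (W : Set (U : Scheme.{u})).Nonempty) {r : R}
    (hr : r ≠ 0) : σ U W r ≠ 0 := by
  intro h0
  obtain ⟨w, hw⟩ := hW
  haveI : Nonempty (U : Scheme.{u}) := ⟨w⟩
  haveI := isIntegral_open (U := U)
  have hη : genericPoint (U : Scheme.{u}) ∈ W :=
    ((genericPoint_spec (U : Scheme.{u})).mem_open_set_iff W.2).2 ⟨w, trivial, hw⟩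
  have hd : genericPoint (U : Scheme.{u}) ∈ (U : Scheme.{u}).basicOpen (σ U W r) := by
    refine (mem_basicOpen_σ r).2 ⟨hη, fun h => hr ?_⟩
    rw [show (genericPoint (U : Scheme.{u})).1 = genericPoint (Spec R) from
      genericPoint_eq_of_isOpenImmersion U.ι, genericPoint_eq_bot_of_affine] at h
    exact (Submodule.mem_bot R).1 h
  rw [h0, Scheme.basicOpen_zero] at hd
  exact hd

theorem σ_injective {W : (U : Scheme.{u}).Opens} (hW : (W : Set (U : Scheme.{u})).Nonempty) :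
    Function.Injective (σ U W) := by
  rw [injective_iff_map_eq_zero]
  intro r hr
  by_contra h
  exact σ_ne_zero hW h hr

theorem cancel {W : (U : Scheme.{u}).Opens} {r : R} (hr : r ≠ 0) {a b : Γ((U : Scheme.{u}), W)}
    (h : a * σ U W r = b * σ U W r) : a = b := by
  by_cases hW : (W : Set (U : Scheme.{u})).Nonempty
  · obtain ⟨w, hw⟩ := hW
    haveI : Nonempty (U : Scheme.{u}) := ⟨w⟩
    haveI := isIntegral_open (U := U)
    haveI : Nonempty W := ⟨⟨w, hw⟩⟩
    exact mul_right_cancel₀ (σ_ne_zero ⟨w, hw⟩ hr) h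
  · haveI : Subsingleton Γ((U : Scheme.{u}), W) := by
      rw [show W = ⊥ from Opens.ext (Set.not_nonempty_iff_eq_empty.1 hW)]; infer_instance
    exact Subsingleton.elim _ _

omit [IsDomain R] in
/-- Sections are fractions near every point. -/
theorem exists_frac {V : (U : Scheme.{u}).Opens} (z : Γ((U : Scheme.{u}), V))
    (y : (U : Scheme.{u})) (hy : y ∈ V) :
    ∃ (W : (U : Scheme.{u}).Opens) (h : W ≤ V), y ∈ W ∧ ∃ c t : R, t ∉ (y.1).asIdeal ∧
      σ U W t * fres _ h z = σ U W c := by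
  letI : Algebra R ((Spec R).presheaf.stalk (y.1)) := StructureSheaf.stalkAlgebra R (y.1)
  haveI : IsLocalization.AtPrime ((Spec R).presheaf.stalk (y.1)) (y.1).asIdeal :=
    StructureSheaf.IsLocalization.to_stalk R (y.1)
  obtain ⟨⟨c, t⟩, hct⟩ := IsLocalization.surj (y.1).asIdeal.primeCompl
    ((U.stalkIso y).hom ((U : Scheme.{u}).presheaf.germ V y hy z))
  have hmap : ∀ r : R, U.ι.stalkMap y (algebraMap R ((Spec R).presheaf.stalk (y.1)) r) =
      (U : Scheme.{u}).presheaf.germ V y hy (σ U V r) := by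
    intro r
    have h1 : algebraMap R ((Spec R).presheaf.stalk (y.1)) r =
        (Spec R).presheaf.germ ⊤ (y.1) trivial ((Scheme.ΓSpecIso R).inv r) := rfl
    rw [h1]
    exact (Scheme.Hom.germ_stalkMap_apply U.ι ⊤ y trivial _).trans
      ((U : Scheme.{u}).presheaf.germ_res_apply (homOfLE le_top) y hy _).symm
  have h2 := congrArg (U.ι.stalkMap y).hom hct
  erw [map_mul, hmap, hmap] at h2
  rw [← Scheme.Opens.stalkIso_inv] at h2
  erw [Iso.hom_inv_id_apply] at h2
  rw [← map_mul] at h2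
  obtain ⟨W, hyW, i₁, i₂, hW⟩ := (U : Scheme.{u}).presheaf.germ_eq y hy hy _ _ h2
  refine ⟨W, i₁.le, hyW, c, t, t.2, ?_⟩
  have hW' : fres _ i₁.le (z * σ U V t) = fres _ i₂.le (σ U V c) := hW
  rw [res_σ, fres, map_mul] at hW'
  rw [← hW', ← res_σ i₁.le (t : R), mul_comm]

omit [IsDomain R] in
theorem exists_unit_frac {V : (U : Scheme.{u}).Opens} (z : Γ((U : Scheme.{u}), V)) (hz : IsUnit z)
    (y : (U : Scheme.{u})) (hy : y ∈ V) :
    ∃ (W : (U : Scheme.{u}).Opens) (h : W ≤ V), y ∈ W ∧ ∃ c t : R, t ∉ (y.1).asIdeal ∧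
      c ∉ (y.1).asIdeal ∧ σ U W t * fres _ h z = σ U W c := by
  obtain ⟨W, h, hyW, c, t, ht, heq⟩ := exists_frac z y hy
  refine ⟨W ⊓ (U : Scheme.{u}).basicOpen (σ U W t), inf_le_left.trans h,
    ⟨hyW, (mem_basicOpen_σ t).2 ⟨hyW, ht⟩⟩, c, t, ht, ?_, ?_⟩
  · intro hc
    have hu : IsUnit (σ U (W ⊓ (U : Scheme.{u}).basicOpen (σ U W t)) c) := by
      rw [← res_σ (inf_le_left : W ⊓ _ ≤ W) c, ← heq, fres, map_mul]
      refine IsUnit.mul ?_ ((hz.map _).map _)
      exact InvExt.isUnit_res_of_le_basicOpen _ _ inf_le_right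
    have := (mem_basicOpen_σ (y := y) (W := W ⊓ (U : Scheme.{u}).basicOpen (σ U W t)) c).1 (by
      rw [Scheme.basicOpen_of_isUnit _ hu]
      exact ⟨hyW, (mem_basicOpen_σ t).2 ⟨hyW, ht⟩⟩)
    exact this.2 hc
  · have := congrArg (fres _ (inf_le_left : W ⊓ (U : Scheme.{u}).basicOpen (σ U W t) ≤ W)) heq
    rw [res_σ, fres, map_mul] at this
    rw [← this, ← res_σ (inf_le_left : W ⊓ (U : Scheme.{u}).basicOpen (σ U W t) ≤ W) t,
      ← InvExt.fres_fres h inf_le_left z]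

/-- The main criterion. -/
theorem exists_span_eq [IsNoetherianRing R] [IsIntegrallyClosed R] (p : Ideal R) [p.IsPrime]
    (hp : p.height = 1)
    (hU : ∀ y : Spec R, y.asIdeal.height = 1 → y ∈ U)
    (hcov : ∀ y ∈ U, ∃ f g : R, f ∉ y.asIdeal ∧ Good p f g)
    (hP : ParaF.PicTrivial (U : Scheme.{u})) : ∃ a : R, p = Ideal.span {a} := by
  classical
  let D : {x : R × R // Good p x.1 x.2} → (U : Scheme.{u}).Opens :=
    fun i => U.ι ⁻¹ᵁ PrimeSpectrum.basicOpen i.1.1
  have hex : ∀ i j, ∃ x : Γ((U : Scheme.{u}), D i ⊓ D j),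
      x * σ U _ j.1.2 = σ U _ i.1.2 := by
    intro i j
    obtain ⟨n, hn⟩ := i.2.2.2
    obtain ⟨m, a, ha⟩ := j.2.2.1 _ hn
    have hu : IsUnit (σ U (D i ⊓ D j) (j.1.1 ^ m * i.1.1 ^ n)) := by
      rw [map_mul, map_pow, map_pow]
      exact ((isUnit_σ _ inf_le_right).pow m).mul ((isUnit_σ _ inf_le_left).pow n)
    refine ⟨(↑hu.unit⁻¹ : Γ((U : Scheme.{u}), D i ⊓ D j)) * σ U _ a, ?_⟩
    have key : σ U (D i ⊓ D j) a * σ U (D i ⊓ D j) j.1.2 =
        σ U (D i ⊓ D j) (j.1.1 ^ m * i.1.1 ^ n) * σ U (D i ⊓ D j) i.1.2 := by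
      rw [← map_mul, ← map_mul, mul_comm a, ← ha, mul_assoc]
    rw [mul_assoc, key, ← mul_assoc, IsUnit.val_inv_mul, one_mul]
  choose G hG using hex
  have hres : ∀ i j (W : (U : Scheme.{u}).Opens) (h : W ≤ D i ⊓ D j),
      fres _ h (G i j) * σ U W j.1.2 = σ U W i.1.2 := by
    intro i j W h
    have := congrArg (fres (U : Scheme.{u}) h) (hG i j)
    rw [fres, map_mul] at this
    rw [← res_σ h, ← res_σ h i.1.2]
    exact this
  let c : Ample.Cocycle (U : Scheme.{u}) :=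
    { ι := {x : R × R // Good p x.1 x.2}
      D := D
      g := G
      cover := eq_top_iff.2 fun y _ => by
        obtain ⟨f, g, hf, hg⟩ := hcov (y.1) y.2
        exact Opens.mem_iSup.2 ⟨⟨(f, g), hg⟩, hf⟩
      self := fun i W h => by
        refine cancel i.2.1 ?_
        rw [one_mul]; exact hres i i W _
      change := fun i j k W hi hj hk => by
        refine cancel k.2.1 ?_
        rw [mul_assoc]
        exact (hres i k W _).trans (((congrArg (fun t => _ * t) (hres j k W _)).trans (hres i j W _))).symm }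
  obtain ⟨φ⟩ := hP (c.twist 1) (c.isInvertible_twist 1)
  let v : ∀ i, Γ((U : Scheme.{u}), c.D i) := fun i => φ.hom.app (c.D i) (c.base 1 i le_rfl)
  have hv : ∀ i, IsUnit (v i) := by
    intro i
    have hgen := (c.isGen_base 1 i le_rfl).map φ.hom fun W _ => by
      refine ConcreteCategory.bijective_of_isIso _
    obtain ⟨x, hx⟩ := (hgen (c.D i) le_rfl).2 (1 : Γ((U : Scheme.{u}), c.D i))
    refine IsUnit.of_mul_eq_one x ?_
    rw [mul_comm]
    refine Eq.trans ?_ hx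
    show x * v i = x * fres _ le_rfl (v i)
    rw [InvExt.fres_self]
  let w : ∀ i, Γ((U : Scheme.{u}), c.D i) := fun i => σ U _ i.1.2 * v i
  have hagree : ∀ i j (W : (U : Scheme.{u}).Opens) (hi : W ≤ c.D i) (hj : W ≤ c.D j),
      fres _ hi (w i) = fres _ hj (w j) := by
    intro i j W hi hj
    have e1 : fres _ hi (v i) = φ.hom.app W (c.base 1 i hi) := by
      rw [← c.sectRes_base 1 i le_rfl hi]
      exact InvExt.mres_app φ.hom hi _
    have e2 : fres _ hj (v j) = φ.hom.app W (c.base 1 j hj) := by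
      rw [← c.sectRes_base 1 j le_rfl hj]
      exact InvExt.mres_app φ.hom hj _
    have e3 : fres _ hj (v j) = c.G i j hi hj * fres _ hi (v i) := by
      rw [e2, e1, c.base_eq_smul_base 1 i j hi hj, pow_one]
      exact Scheme.Modules.Hom.app_smul φ.hom _ _
    simp only [w, fres, map_mul]
    rw [show ((U : Scheme.{u}).presheaf.map (homOfLE hj).op) (v j) = _ from e3]
    show fres _ hi (σ U _ i.1.2) * fres _ hi (v i) = fres _ hj (σ U _ j.1.2) * (_ * fres _ hi (v i))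
    rw [res_σ, res_σ, ← mul_assoc, mul_comm (σ U W j.1.2)]
    congr 1
    exact (hres i j W (le_inf hi hj)).symm
  obtain ⟨s, hs, -⟩ := (U : Scheme.{u}).sheaf.existsUnique_gluing' c.D ⊤ (fun i => homOfLE le_top)
    (by rw [c.cover]) w (fun i j => hagree i j _ inf_le_left inf_le_right)
  have hs' : ∀ i, fres _ (le_top : c.D i ≤ ⊤) s = w i := hs
  -- fix one representation of `s` as a fraction
  obtain ⟨η, hη⟩ : ∃ y : Spec R, y.asIdeal.height = 1 := ⟨⟨p, ‹_›⟩, hp⟩
  obtain ⟨W₀, h₀, hy₀, c₀, t₀, ht₀, heq₀⟩ := exists_frac s ⟨η, hU η hη⟩ trivial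
  have ht₀0 : t₀ ≠ 0 := fun h => ht₀ (h ▸ zero_mem _)
  -- local fractions of `s`
  have hloc : ∀ y : Spec R, y.asIdeal.height = 1 → ∃ (i : c.ι) (cc tt : R),
      i.1.1 ∉ y.asIdeal ∧ cc ∉ y.asIdeal ∧ tt ∉ y.asIdeal ∧ tt * c₀ = i.1.2 * cc * t₀ := by
    intro y hy
    obtain ⟨i, hi⟩ := c.exists_mem ⟨y, hU y hy⟩
    obtain ⟨W, hW, hyW, cc, tt, htt, hcc, heq⟩ := exists_unit_frac (v i) (hv i) _ hi
    refine ⟨i, cc, tt, hi, hcc, htt, ?_⟩
    haveI : Nonempty (U : Scheme.{u}) := ⟨⟨y, hU y hy⟩⟩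
    haveI := isIntegral_open (U := U)
    have hne : ((W ⊓ W₀ : (U : Scheme.{u}).Opens) : Set (U : Scheme.{u})).Nonempty :=
      nonempty_preirreducible_inter W.2 W₀.2 ⟨_, hyW⟩ ⟨_, hy₀⟩
    refine σ_injective hne ?_
    have a1 := congrArg (fres _ (inf_le_left : W ⊓ W₀ ≤ W)) heq
    rw [res_σ, fres, map_mul, ← fres, ← fres, res_σ, InvExt.fres_fres] at a1
    have a2 := congrArg (fres _ (inf_le_right : W ⊓ W₀ ≤ W₀)) heq₀
    rw [res_σ, fres, map_mul, ← fres, ← fres, res_σ, InvExt.fres_fres] at a2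
    have a3 := congrArg (fres _ ((inf_le_left : W ⊓ W₀ ≤ W).trans hW)) (hs' i)
    rw [InvExt.fres_fres] at a3
    simp only [w, fres, map_mul] at a3
    rw [← fres, ← fres, res_σ] at a3
    rw [map_mul, map_mul, map_mul, ← a2, ← a1, a3]
    ring
  obtain ⟨a, ha⟩ := GrothLib.NormalSerre.mem_range_of_forall_height_one
    (algebraMap R (FractionRing R) c₀ / algebraMap R (FractionRing R) t₀) (fun q _ hq => by
      obtain ⟨i, cc, tt, -, -, htt, he⟩ := hloc ⟨q, ‹_›⟩ hq
      refine ⟨i.1.2 * cc, tt, htt, ?_⟩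
      rw [div_mul_eq_mul_div, eq_div_iff (by simpa using ht₀0), ← map_mul, ← map_mul]
      congr 1
      rw [mul_comm c₀, he])
  rw [eq_div_iff (by simpa using ht₀0), ← map_mul] at ha
  have hat := IsFractionRing.injective R (FractionRing R) ha
  have hkey : ∀ y : Spec R, y.asIdeal.height = 1 → ∃ (i : c.ι) (cc tt : R),
      i.1.1 ∉ y.asIdeal ∧ cc ∉ y.asIdeal ∧ tt ∉ y.asIdeal ∧ tt * a = i.1.2 * cc := by
    intro y hy
    obtain ⟨i, cc, tt, h1, h2, h3, he⟩ := hloc y hy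
    refine ⟨i, cc, tt, h1, h2, h3, mul_right_cancel₀ ht₀0 ?_⟩
    rw [← he, ← hat]; ring
  obtain ⟨i, cc, tt, hfi, hcc, htt, he⟩ := hkey ⟨p, ‹_›⟩ hp
  have hap : a ∈ p := by
    obtain ⟨n, hn⟩ := i.2.2.2
    have : i.1.1 ^ n * tt * a ∈ p := by
      rw [mul_assoc, he, ← mul_assoc]; exact p.mul_mem_right _ hn
    refine ((Ideal.IsPrime.mem_or_mem ‹_› this).resolve_left fun h => ?_)
    exact (Ideal.IsPrime.mem_or_mem ‹_› h).elim (fun h' => hfi (‹p.IsPrime›.mem_of_pow_mem _ h')) htt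
  have ha0 : a ≠ 0 := fun h => by
    rw [h, mul_zero, eq_comm, mul_eq_zero] at he
    exact he.elim i.2.1 (fun h' => hcc (h' ▸ zero_mem _))
  refine ⟨a, le_antisymm (fun x hx => ?_) (by rwa [Ideal.span_le, Set.singleton_subset_iff])⟩
  obtain ⟨b, hb⟩ := GrothLib.NormalSerre.mem_range_of_forall_height_one
    (algebraMap R (FractionRing R) x / algebraMap R (FractionRing R) a) (fun q hqp hq => by
      obtain ⟨i, cc, tt, hf, hcc, -, he⟩ := hkey ⟨q, hqp⟩ hq
      obtain ⟨n, d, hd⟩ := i.2.2.1 x hx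
      refine ⟨tt * d, cc * i.1.1 ^ n, fun h => (hqp.mem_or_mem h).elim hcc
        (fun h' => hf (hqp.mem_of_pow_mem _ h')), ?_⟩
      rw [div_mul_eq_mul_div, eq_div_iff (by simpa using ha0), ← map_mul, ← map_mul]
      congr 1
      calc tt * d * a = tt * a * d := by ring
        _ = cc * (i.1.2 * d) := by rw [he]; ring
        _ = x * (cc * i.1.1 ^ n) := by rw [← hd]; ring)
  rw [eq_div_iff (by simpa using ha0), ← map_mul] at hb
  exact Ideal.mem_span_singleton'.2 ⟨b, IsFractionRing.injective R (FractionRing R) hb⟩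

end GrothLib.UFDPunct

end
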