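/-
Factoriality of a Noetherian local ring and of its punctured spectrum.
-/
import Groth.Agent.Lib.UFDPunct.Basic
import Groth.Agent.Lib.NormalSerre.Serre
import Groth.Agent.Lib.Depth.Basic
import Groth.Prelude.Def_FEt
import Groth.Agent.S0233

universe u

open CategoryTheory Limits AlgebraicGeometry Opposite TopologicalSpace IsLocalRing

noncomputable section

namespace GrothLib.UFDPunct

variable (A : Type u) [CommRing A] [IsLocalRing A]

theorem mem_punctured_iff (y : Spec (CommRingCat.of A)) :
    y ∈ FEt.puncturedSpec A ↔ y.asIdeal ≠ maximalIdeal A := by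
  show y ∉ ({IsLocalRing.closedPoint A} : Set (PrimeSpectrum A)) ↔ _
  exact not_congr (Set.mem_singleton_iff.trans PrimeSpectrum.ext_iff)

variable {A}

/-- A stalk of the spectrum is the localisation. -/
theorem nonempty_stalkEquiv (y : Spec (CommRingCat.of A)) :
    Nonempty ((Spec (CommRingCat.of A)).presheaf.stalk y ≃+* Localization.AtPrime y.asIdeal) := by
  letI : Algebra A ((Spec (CommRingCat.of A)).presheaf.stalk y) := StructureSheaf.stalkAlgebra A y
  haveI : IsLocalization.AtPrime ((Spec (CommRingCat.of A)).presheaf.stalk y) y.asIdeal :=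
    StructureSheaf.IsLocalization.to_stalk A y
  exact ⟨(IsLocalization.algEquiv y.asIdeal.primeCompl _ (Localization.AtPrime y.asIdeal)).toRingEquiv⟩

/-- Factorial stalks and trivial Picard group of the punctured spectrum give factoriality. -/
theorem ufd_of_punctured [IsDomain A] [IsNoetherianRing A] [IsIntegrallyClosed A]
    (hdim : (2 : WithBot ℕ∞) ≤ ringKrullDim A)
    (hst : ∀ y : Spec (CommRingCat.of A), y ∈ FEt.puncturedSpec A →
      UniqueFactorizationMonoid ((Spec (CommRingCat.of A)).presheaf.stalk y))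
    (hP : ParaF.PicTrivial (FEt.puncturedSpec A : Scheme.{u})) : UniqueFactorizationMonoid A := by
  refine UniqueFactorizationMonoid.of_forall_isPrincipal_of_height_eq_one fun p _ hp => ?_
  haveI : IsDomain (CommRingCat.of A) := inferInstanceAs (IsDomain A)
  haveI : IsNoetherianRing (CommRingCat.of A) := inferInstanceAs (IsNoetherianRing A)
  haveI : IsIntegrallyClosed (CommRingCat.of A) := inferInstanceAs (IsIntegrallyClosed A)
  have hmax : 1 < (maximalIdeal A).height := by
    have h := hdim
    rw [← maximalIdeal_height_eq_ringKrullDim] at h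
    have h' : (2 : ℕ∞) ≤ (maximalIdeal A).height := WithBot.coe_le_coe.1 h
    exact lt_of_lt_of_le (by exact_mod_cast Nat.one_lt_two) h'
  obtain ⟨a, ha⟩ := exists_span_eq (U := FEt.puncturedSpec A) (R := CommRingCat.of A) p hp
    (fun y hy => (mem_punctured_iff A y).2 fun e => by rw [e] at hy; exact hmax.ne' hy)
    (fun y hy => by
      letI : Algebra A ((Spec (CommRingCat.of A)).presheaf.stalk y) := StructureSheaf.stalkAlgebra A y
      haveI : IsLocalization.AtPrime ((Spec (CommRingCat.of A)).presheaf.stalk y) y.asIdeal :=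
        StructureSheaf.IsLocalization.to_stalk A y
      haveI := IsLocalization.isDomain_of_local_atPrime (A := A) (P := y.asIdeal) y.2
      haveI : IsDomain ((Spec (CommRingCat.of A)).presheaf.stalk y) :=
        IsLocalization.isDomain_of_le_nonZeroDivisors _ y.asIdeal.primeCompl_le_nonZeroDivisors
      haveI := hst y hy
      exact exists_good p hp y.asIdeal ((Spec (CommRingCat.of A)).presheaf.stalk y))
    hP
  exact ⟨a, ha⟩

/-- Depth two and punctured factoriality give a normal domain. -/
theorem normal_of_punctured [IsNoetherianRing A] (hdep : (2 : ℕ∞) ≤ LocCoh.depth A A)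
    (hst : ∀ y : Spec (CommRingCat.of A), y ∈ FEt.puncturedSpec A →
      IsDomain ((Spec (CommRingCat.of A)).presheaf.stalk y) ∧
        UniqueFactorizationMonoid ((Spec (CommRingCat.of A)).presheaf.stalk y)) :
    IsDomain A ∧ IsIntegrallyClosed A := by
  have hne : maximalIdeal A • (⊤ : Submodule A A) ≠ ⊤ := by
    rw [smul_eq_mul, Ideal.mul_top]
    exact (maximalIdeal.isMaximal A).ne_top
  obtain ⟨rs, hlen, hmem, hreg⟩ :=
    (GrothLib.Depth.le_idealDepth_iff_exists (maximalIdeal A) hne 2).1 hdep
  obtain ⟨x, y, rfl⟩ := List.length_eq_two.1 hlen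
  refine GrothLib.NormalSerre.isDomain_isIntegrallyClosed_of_pair x y (hmem x (by simp))
    (hmem y (by simp)) hreg fun P hP hne' => ?_
  obtain ⟨hd, hu⟩ := hst ⟨P, hP⟩ ((mem_punctured_iff A _).2 hne')
  obtain ⟨e⟩ := nonempty_stalkEquiv (A := A) ⟨P, hP⟩
  exact ⟨e.symm.injective.isDomain (e.symm.toRingHom), IsIntegrallyClosed.of_equiv e⟩

/-- Localisations of a factorial domain are factorial. -/
theorem stalk_ufd [IsDomain A] [UniqueFactorizationMonoid A] (y : Spec (CommRingCat.of A)) :
    IsDomain ((Spec (CommRingCat.of A)).presheaf.stalk y) ∧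
      UniqueFactorizationMonoid ((Spec (CommRingCat.of A)).presheaf.stalk y) := by
  letI : Algebra A ((Spec (CommRingCat.of A)).presheaf.stalk y) := StructureSheaf.stalkAlgebra A y
  haveI : IsLocalization.AtPrime ((Spec (CommRingCat.of A)).presheaf.stalk y) y.asIdeal :=
    StructureSheaf.IsLocalization.to_stalk A y
  haveI : IsDomain ((Spec (CommRingCat.of A)).presheaf.stalk y) :=
    IsLocalization.isDomain_of_le_nonZeroDivisors _ y.asIdeal.primeCompl_le_nonZeroDivisors
  exact ⟨inferInstance, UniqueFactorizationMonoid.of_isLocalization y.asIdeal.primeCompl _⟩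

theorem depth_two [IsDomain A] [IsNoetherianRing A] [IsIntegrallyClosed A]
    (hdim : (2 : WithBot ℕ∞) ≤ ringKrullDim A) : (2 : ℕ∞) ≤ LocCoh.depth A A := by
  have hne : maximalIdeal A • (⊤ : Submodule A A) ≠ ⊤ := by
    rw [smul_eq_mul, Ideal.mul_top]
    exact (maximalIdeal.isMaximal A).ne_top
  have h := hdim
  rw [← maximalIdeal_height_eq_ringKrullDim] at h
  have h' : (2 : ℕ∞) ≤ (maximalIdeal A).height := WithBot.coe_le_coe.1 h
  obtain ⟨x, y, hx, hy, hxy⟩ := GrothLib.NormalSerre.exists_pair_of_isIntegrallyClosed (A := A)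
    (lt_of_lt_of_le (by exact_mod_cast Nat.one_lt_two) h')
  exact (GrothLib.Depth.le_idealDepth_iff_exists (maximalIdeal A) hne 2).2
    ⟨[x, y], rfl, List.forall_mem_cons.2 ⟨hx, List.forall_mem_singleton.2 hy⟩, hxy⟩

theorem picTrivial_of_ufd [IsDomain A] [UniqueFactorizationMonoid A] :
    ParaF.PicTrivial (FEt.puncturedSpec A : Scheme.{u}) :=
  fun L hL => Groth.Agent.S0233.result A (FEt.puncturedSpec A) L hL

/-- The criterion. -/
theorem ufd_iff_punctured [IsNoetherianRing A] (hdim : (2 : WithBot ℕ∞) ≤ ringKrullDim A) :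
    (IsDomain A ∧ UniqueFactorizationMonoid A) ↔
      (ParaF.PicTrivial (FEt.puncturedSpec A : Scheme.{u}) ∧ (2 : ℕ∞) ≤ LocCoh.depth A A ∧
        ∀ y : ↥(Spec (CommRingCat.of A)), y ∈ FEt.puncturedSpec A →
          IsDomain ((Spec (CommRingCat.of A)).presheaf.stalk y) ∧
            UniqueFactorizationMonoid ((Spec (CommRingCat.of A)).presheaf.stalk y)) := by
  constructor
  · rintro ⟨_, _⟩
    exact ⟨picTrivial_of_ufd, depth_two hdim, fun y _ => stalk_ufd y⟩
  · rintro ⟨hP, hdep, hst⟩
    obtain ⟨_, _⟩ := normal_of_punctured hdep hst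
    exact ⟨inferInstance, ufd_of_punctured hdim (fun y hy => (hst y hy).2) hP⟩

end GrothLib.UFDPunct

end
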